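import Groth.Agent.AVHomLib.Main
import Groth.Prelude.Def_EndRing

/-!
# The rational endomorphism algebra
-/

set_option autoImplicit false
set_option backward.isDefEq.respectTransparency false

universe u

open CategoryTheory MonoidalCategory CartesianMonoidalCategory MonObj AlgebraicGeometry
open scoped TensorProduct

noncomputable section

namespace Groth.Agent.AVHomLib

variable {k : Type u} [Field k] {A : Over (Spec (CommRingCat.of k))}
  [GrpObj A] [IsCommMonObj A] [IsProper A.hom] [GeometricallyIntegral A.hom]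

variable (A) in
theorem finite_end0 : Module.Finite ℚ (EndAV.End0 A) := by
  haveI : Module.Finite ℤ (EndAV.End A) := (finite_hom A A).1
  infer_instance

theorem toEnd0_injective : Function.Injective (EndAV.toEnd0 (A := A)) := by
  haveI : Module.Free ℤ (EndAV.End A) := (finite_hom A A).2
  exact Algebra.TensorProduct.includeRight_injective (FaithfulSMul.algebraMap_injective ℤ ℚ)

theorem exists_den (x : EndAV.End0 A) : ∃ (n : ℕ) (φ : EndAV.End A), 0 < n ∧ (n : ℚ) • x = EndAV.toEnd0 φ := by
  induction x using TensorProduct.induction_on with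
  | zero => exact ⟨1, 0, one_pos, by simp⟩
  | tmul q φ =>
    refine ⟨q.den, q.num • φ, q.den_pos, ?_⟩
    rw [EndAV.toEnd0_apply, TensorProduct.smul_tmul', smul_eq_mul, ← TensorProduct.smul_tmul, mul_comm,
      Rat.mul_den_eq_num]
    simp
  | add x y hx hy =>
    obtain ⟨n, φ, hn, h1⟩ := hx
    obtain ⟨m, ψ, hm, h2⟩ := hy
    refine ⟨n * m, (m : ℕ) • φ + (n : ℕ) • ψ, mul_pos hn hm, ?_⟩
    rw [map_add, map_nsmul, map_nsmul, ← h1, ← h2, smul_add, ← Nat.cast_smul_eq_nsmul ℚ m,
      ← Nat.cast_smul_eq_nsmul ℚ n, smul_smul, smul_smul, Nat.cast_mul, mul_comm (m : ℚ) n]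

/-- If `End(A)` has no zero divisors, `End⁰(A)` is a division algebra. -/
theorem isUnit_of_noZeroDivisors (h : ∀ φ ψ : EndAV.End A, φ * ψ = 0 → φ = 0 ∨ ψ = 0) (x : EndAV.End0 A)
    (hx : x ≠ 0) : IsUnit x := by
  haveI := finite_end0 A
  have h0 : ∀ y z : EndAV.End0 A, y * z = 0 → y = 0 ∨ z = 0 := fun y z hyz => by
    obtain ⟨n, φ, hn, h1⟩ := exists_den y
    obtain ⟨m, ψ, hm, h2⟩ := exists_den z
    have h3 : EndAV.toEnd0 (φ * ψ) = 0 := by rw [map_mul, ← h1, ← h2, smul_mul_smul_comm, hyz, smul_zero]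
    rcases h φ ψ (toEnd0_injective (h3.trans (map_zero _).symm)) with rfl | rfl
    · left
      rw [map_zero] at h1
      exact (smul_eq_zero.1 h1).resolve_left (by exact_mod_cast hn.ne')
    · right
      rw [map_zero] at h2
      exact (smul_eq_zero.1 h2).resolve_left (by exact_mod_cast hm.ne')
  have hl : Function.Injective (LinearMap.mulLeft ℚ x) := (injective_iff_map_eq_zero _).2 fun z hz =>
    (h0 x z hz).resolve_left hx
  obtain ⟨y, hy⟩ := LinearMap.surjective_of_injective hl 1
  have hy' : x * y = 1 := hy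
  refine ⟨⟨x, y, hy', sub_eq_zero.1 ((h0 x _ ?_).resolve_left hx)⟩, rfl⟩
  rw [mul_sub, ← _root_.mul_assoc, hy', _root_.one_mul, _root_.mul_one, sub_self]

end Groth.Agent.AVHomLib
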