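import Groth.Agent.AVLib.Cube
import Groth.Agent.AVLib.Isogeny
import Groth.Agent.AVLib.AmpleCrit
import Groth.Agent.CurveRigid.Main
import Groth.Agent.CurveLib.Ample
import Groth.Agent.CurveLib.DegTensor
import Groth.Agent.DimFormulaLib.Scheme
import Groth.Agent.S4443
import Groth.Agent.S11992

/-!
# Integer valued functionals on homomorphisms of abelian varieties
-/

set_option autoImplicit false
set_option backward.isDefEq.respectTransparency false

universe u

open CategoryTheory CategoryTheory.Limits MonoidalCategory CartesianMonoidalCategory MonObj AlgebraicGeometry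
open IsLocalRing Groth.Agent.AmpleLib Groth.Agent.PicLib

noncomputable section

namespace Groth.Agent.AVHomLib

variable {K : Type u} [Field K]

theorem dim_of_closed_stalks {C : Scheme.{u}} [IsIntegral C] [C.Over (Spec (CommRingCat.of K))]
    [IsProper (C ↘ Spec (CommRingCat.of K))]
    (h : ∀ x : C, IsClosed ({x} : Set C) → ringKrullDim (C.presheaf.stalk x) = 1) : topologicalKrullDim C = 1 := by
  haveI := LocallyOfFiniteType.jacobsonSpace (C ↘ Spec (CommRingCat.of K))
  rw [DimFormulaLib.topologicalKrullDim_eq_iSup_stalk]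
  obtain ⟨c, -, hc⟩ := nonempty_inter_closedPoints (Z := (Set.univ : Set C)) ⟨Nonempty.some inferInstance, trivial⟩
    isOpen_univ.isLocallyClosed
  refine le_antisymm (iSup_le fun x => ?_) (le_iSup_of_le c (h c hc).ge)
  by_cases hx : IsClosed ({x} : Set C)
  · exact (h x hx).le
  · obtain rfl := (Groth.Agent.S4443.result K C h).1 x hx
    rw [ringKrullDim_eq_zero_of_isField (Field.toIsField C.functionField)]
    exact zero_le_one

variable [IsAlgClosed K] {A B : Over (Spec (CommRingCat.of K))}
  [GrpObj A] [IsProper A.hom] [GeometricallyIntegral A.hom]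
  [GrpObj B] [IsProper B.hom] [GeometricallyIntegral B.hom]

/-- A nontrivial homomorphism is nonconstant on some smooth complete curve through the origin. -/
theorem exists_curve_nonconst (φ : A ⟶ B) [IsMonHom φ] (hφ : φ ≠ 1) :
    ∃ (X : Over (Spec (CommRingCat.of K))) (_ : IsProper X.hom) (_ : IsIntegral X.left),
      topologicalKrullDim X.left = 1 ∧ ∃ h : X ⟶ A, IsFinite (h ≫ φ).left := by
  haveI : IsIntegral A.left := GeometricallyIntegral.isIntegral_of_subsingleton A.hom
  set e := η[B].left (closedPoint K)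
  have hF : IsClosed (φ.left ⁻¹' {e}) := (CurveRigid.isClosed_pt η[B]).preimage φ.left.continuous
  have hne : φ.left ⁻¹' {e} ≠ Set.univ := by
    intro h
    refine hφ (Over.OverMorphism.ext ?_)
    haveI : LocallyOfFiniteType (φ.left ≫ B.hom) := by rw [Over.w φ]; infer_instance
    refine ext_of_apply_eq B.hom Set.univ isClosed_univ.isLocallyClosed dense_univ (fun x _ hx => ?_)
      (by rw [Over.w, Over.w])
    have h1 : φ.left x = e := (h ▸ Set.mem_univ x : x ∈ φ.left ⁻¹' {e})
    rw [h1, Hom.one_def, Over.comp_left, Scheme.Hom.comp_apply]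
    exact congrArg η[B].left (Subsingleton.elim (α := PrimeSpectrum K) _ _)
  have hw : η[A].left (closedPoint K) ∈ φ.left ⁻¹' {e} := by
    show φ.left _ = e
    rw [← Scheme.Hom.comp_apply, ← Over.comp_left, IsMonHom.one_hom]
  letI : A.left.Over (Spec (CommRingCat.of K)) := ⟨A.hom⟩
  haveI : LocallyOfFiniteType (A.left ↘ Spec (CommRingCat.of K)) := inferInstanceAs (LocallyOfFiniteType A.hom)
  obtain ⟨C, hCo, hCi, hCd, hCp, hCs, U, ψ, c, z, hψ, hcl, hcw, hz⟩ :=
    CurveRigid.exists_curve' (k := K) _ (CurveRigid.isClosed_pt η[A]) _ hF hw hne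
  letI := hCo
  haveI := hCi
  haveI := hCp
  haveI := hCs
  haveI := AVLib.geometricallyIntegral_of_isIntegral (C ↘ Spec (CommRingCat.of K))
  obtain ⟨g, hg, hgU⟩ := Groth.Agent.S11992.result K C (C ↘ Spec (CommRingCat.of K)) A U ⟨c.1, c.2⟩ ψ hψ
  let X : Over (Spec (CommRingCat.of K)) := Over.mk (C ↘ Spec (CommRingCat.of K))
  haveI : IsIntegral X.left := hCi
  haveI : IsProper X.hom := hCp
  let h : X ⟶ A := Over.homMk g hg
  refine ⟨X, inferInstance, inferInstance, dim_of_closed_stalks (K := K) (C := C) hCd, h, ?_⟩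
  set f := (h ≫ φ).left
  have hf : ∀ x, f x = φ.left (g x) := fun x => Scheme.Hom.comp_apply _ _ x
  have hgz : ∀ y : U, g y.1 = ψ y := fun y => by rw [← hgU]; rfl
  have hfc : f c.1 = e := by rw [hf, hgz, hcw]; exact hw
  have hfz : f z.1 ≠ e := fun h' => hz (show φ.left (ψ z) = e by rw [← hgz, ← hf]; exact h')
  haveI : IsProper f := by
    haveI : IsProper (f ≫ B.hom) := by rw [Over.w (h ≫ φ)]; infer_instance
    exact IsProper.of_comp f B.hom
  haveI : LocallyQuasiFinite f := by
    refine LocallyQuasiFinite.of_finite_preimage_singleton f fun y => ?_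
    by_cases hy : IsClosed ({y} : Set B.left)
    · refine (((Groth.Agent.S4443.result K C hCd).2 _ (hy.preimage f.continuous)).1 fun hu => ?_).1
      have h1 : f c.1 = y := (hu ▸ Set.mem_univ c.1 : c.1 ∈ f ⁻¹' {y})
      have h2 : f z.1 = y := (hu ▸ Set.mem_univ z.1 : z.1 ∈ f ⁻¹' {y})
      exact hfz (h2.trans (h1.symm.trans hfc))
    · refine (Set.finite_singleton (genericPoint C)).subset fun x hx => ?_
      refine (Groth.Agent.S4443.result K C hCd).1 x fun hxc => hy ?_
      have := f.isClosedMap _ hxc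
      rw [Set.image_singleton, hx] at this
      exact this
  exact IsFinite.of_isProper_of_locallyQuasiFinite f

/-- For a nontrivial homomorphism some additive functional on homomorphisms does not kill it. -/
theorem exists_functional (φ : A ⟶ B) [IsMonHom φ] (hφ : φ ≠ 1) :
    ∃ F : (A ⟶ B) → ℤ, (∀ ψ χ, F (ψ * χ) = F ψ + F χ) ∧ F φ ≠ 0 := by
  obtain ⟨X, hXp, hXi, hdim, h, hfin⟩ := exists_curve_nonconst φ hφ
  haveI := hXp
  haveI := hXi
  haveI := hfin
  letI : X.left.Over (Spec (CommRingCat.of K)) := ⟨X.hom⟩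
  haveI : IsProper (X.left ↘ Spec (CommRingCat.of K)) := hXp
  obtain ⟨M, hM, hMs⟩ := AVLib.exists_symmetric_ample (A := B)
  choose rep hrep1 hrep2 using fun a : Pic X.left => exists_cls a
  let d : Pic X.left → ℤ := fun a => Curv2.deg K X.left (rep a) 1
  have hd : ∀ {L : X.left.Modules} (hL : PicF.IsInvertible L), d (cls hL) = Curv2.deg K X.left L 1 := fun {L} hL => by
    obtain ⟨e⟩ := (cls_eq_cls _ hL).1 (hrep2 (cls hL))
    exact CurveLib.deg_iso e 1
  have hmul : ∀ a b, d (a * b) = d a + d b := fun a b => by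
    conv_lhs => rw [← hrep2 a, ← hrep2 b, ← cls_tensor, hd]
    exact CurveLib.deg_tensor_add hdim.le (hrep1 a) (hrep1 b)
  let q : (X ⟶ B) → ℤ := fun f => d (pull f.left (cls hM.1))
  have hcube : ∀ f g i, q (f * g * i) + q f + q g + q i = q (f * g) + q (f * i) + q (g * i) := fun f g i => by
    simp only [q, ← hmul, AVLib.cube]
  have hq1 : q 1 = 0 := by
    have h1 := hmul 1 1
    rw [_root_.mul_one] at h1
    simp only [q, AVLib.pull_one]
    omega
  have hinv : ∀ f, q f⁻¹ = q f := fun f => by
    show d _ = d _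
    rw [show f⁻¹ = f ≫ (𝟙 B)⁻¹ by rw [GrpObj.comp_inv, Category.comp_id], ← AVLib.pull_left_comp, hMs]
  set b := h ≫ φ with hb
  have hpos : 0 < q b := by
    show 0 < d _
    rw [pull_cls, hd]
    exact (CurveLib.isAmple_iff_deg_pos (k := K) hdim (isInvertible_pullback b.left hM.1)).1
      (isAmple_pullback b.left hM)
  refine ⟨fun ψ => q (h ≫ ψ * b) - q (h ≫ ψ) - q b, fun ψ χ => ?_, ?_⟩
  · have := hcube (h ≫ ψ) (h ≫ χ) b
    simp only [MonObj.comp_mul]
    omega
  · show q (b * b) - q b - q b ≠ 0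
    have := hcube b b b⁻¹
    simp only [mul_inv_cancel_right, mul_inv_cancel, hq1, hinv] at this
    omega

end Groth.Agent.AVHomLib
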