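import Mathlib

/-!
# Saturations in torsionless abelian groups, and `l`-adic independence
-/

set_option autoImplicit false

namespace Groth.Agent.AVHomLib

variable {M : Type*} [AddCommGroup M]

/-- Elements are separated by integer valued functionals. -/
def Torsionless (M : Type*) [AddCommGroup M] : Prop := ∀ x : M, x ≠ 0 → ∃ F : M →+ ℤ, F x ≠ 0

theorem Torsionless.eq_zero (h : Torsionless M) {n : ℤ} (hn : n ≠ 0) {x : M} (hx : n • x = 0) : x = 0 := by
  by_contra hne
  obtain ⟨F, hF⟩ := h x hne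
  exact hF (by simpa [map_zsmul, hn] using congrArg F hx)

/-- The saturation of the span of a family. -/
def sat {ι : Type*} [Fintype ι] (e : ι → M) : Submodule ℤ M where
  carrier := {x | ∃ n : ℤ, n ≠ 0 ∧ ∃ c : ι → ℤ, n • x = ∑ i, c i • e i}
  zero_mem' := ⟨1, one_ne_zero, 0, by simp⟩
  add_mem' := by
    rintro x y ⟨n, hn, c, hc⟩ ⟨m, hm, d, hd⟩
    refine ⟨n * m, mul_ne_zero hn hm, fun i => m * c i + n * d i, ?_⟩
    simp only [smul_add, add_smul, Finset.sum_add_distrib, mul_smul, ← Finset.smul_sum, ← hc, ← hd]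
    rw [smul_comm n m x]
  smul_mem' := by
    rintro a x ⟨n, hn, c, hc⟩
    exact ⟨n, hn, fun i => a * c i, by simp only [mul_smul, ← Finset.smul_sum, ← hc]; rw [smul_comm]⟩

theorem mem_sat {ι : Type*} [Fintype ι] {e : ι → M} {x : M} {n : ℤ} (hn : n ≠ 0) (h : n • x ∈ sat e) : x ∈ sat e := by
  obtain ⟨m, hm, c, hc⟩ := h
  exact ⟨m * n, mul_ne_zero hm hn, c, by rw [mul_smul, hc]⟩

theorem self_mem_sat {ι : Type*} [Fintype ι] (e : ι → M) (i : ι) : e i ∈ sat e := by
  classical
  exact ⟨1, one_ne_zero, Pi.single i 1, by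
    rw [one_smul, Finset.sum_eq_single i (fun j _ hj => by simp [hj]) (by simp)]
    simp⟩

theorem finite_free_sat (h : Torsionless M) {ι : Type*} [Fintype ι] (e : ι → M) :
    Module.Finite ℤ (sat e) ∧ Module.Free ℤ (sat e) := by
  classical
  let s : Set (ι → ℤ) := Set.range fun F : M →+ ℤ => fun i => F (e i)
  obtain ⟨t, hts, ht⟩ := (Submodule.fg_span_iff_fg_span_finset_subset s).1 (IsNoetherian.noetherian (Submodule.span ℤ s))
  choose G hG using fun v : t => hts v.2
  let Φ : sat e →ₗ[ℤ] (t → ℤ) := (AddMonoidHom.mk' (fun x : sat e => fun v => G v x.1)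
    (fun x y => funext fun v => map_add (G v) x.1 y.1)).toIntLinearMap
  have hΦ : Function.Injective Φ := by
    refine (injective_iff_map_eq_zero _).2 fun x hx => Subtype.ext ?_
    obtain ⟨n, hn, c, hc⟩ := x.2
    refine h.eq_zero hn ?_
    by_contra hne
    obtain ⟨F, hF⟩ := h _ hne
    refine hF ?_
    have key : ∀ v ∈ Submodule.span ℤ (t : Set (ι → ℤ)), ∑ i, c i * v i = 0 := by
      intro v hv
      induction hv using Submodule.span_induction with
      | mem v hv =>
        have h1 : G ⟨v, hv⟩ x.1 = 0 := congrFun hx ⟨v, hv⟩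
        have h2 := congrArg (G ⟨v, hv⟩) hc
        rw [map_zsmul, h1, smul_zero, map_sum] at h2
        rw [h2]
        refine Finset.sum_congr rfl fun i _ => ?_
        rw [map_zsmul, smul_eq_mul]
        exact congrArg (c i * ·) (congrFun (hG ⟨v, hv⟩) i).symm
      | zero => simp
      | add v w _ _ hv hw => simp only [Pi.add_apply, mul_add, Finset.sum_add_distrib, hv, hw, add_zero]
      | smul a v _ hv => simp only [Pi.smul_apply, smul_eq_mul, mul_left_comm _ a, ← Finset.mul_sum, hv, mul_zero]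
    rw [hc, map_sum]
    simp only [map_zsmul, smul_eq_mul]
    exact key _ (ht ▸ Submodule.subset_span ⟨F, rfl⟩)
  haveI : Module.Finite ℤ (sat e) := Module.Finite.of_injective Φ hΦ
  haveI : Module.IsTorsionFree ℤ (sat e) := hΦ.moduleIsTorsionFree Φ (fun a x => map_smul Φ a x)
  exact ⟨inferInstance, Module.free_of_finite_type_torsion_free'⟩

/-- A torsionless group of bounded rank is finite free. -/
theorem finite_free_of_bound (h : Torsionless M) (N : ℕ)
    (hb : ∀ (n : ℕ) (e : Fin n → M), LinearIndependent ℤ e → n ≤ N) :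
    Module.Free ℤ M ∧ Module.Finite ℤ M ∧ Module.finrank ℤ M ≤ N := by
  classical
  obtain ⟨e0, he0⟩ : ∃ e : Fin 0 → M, LinearIndependent ℤ e := ⟨Fin.elim0, linearIndependent_empty_type⟩
  let P : ℕ → Prop := fun n => ∃ e : Fin n → M, LinearIndependent ℤ e
  obtain ⟨e, he⟩ : P (Nat.findGreatest P N) := Nat.findGreatest_spec (m := 0) (Nat.zero_le N) ⟨e0, he0⟩
  have htop : sat e = ⊤ := by
    refine eq_top_iff.2 fun x _ => ?_
    by_contra hx
    have h1 : LinearIndependent ℤ (Fin.cons x e : Fin (Nat.findGreatest P N + 1) → M) := by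
      refine Fintype.linearIndependent_iff.2 fun g hg => ?_
      rw [Fin.sum_univ_succ] at hg
      simp only [Fin.cons_zero, Fin.cons_succ] at hg
      have hg0 : g 0 = 0 := by
        by_contra h0
        refine hx ⟨g 0, h0, fun i => -g i.succ, ?_⟩
        simp only [neg_smul, Finset.sum_neg_distrib]
        exact eq_neg_of_add_eq_zero_left hg
      rw [hg0, zero_smul, zero_add] at hg
      exact Fin.cases hg0 (Fintype.linearIndependent_iff.1 he _ hg)
    have h2 := Nat.le_findGreatest (P := P) (hb _ _ h1) ⟨_, h1⟩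
    omega
  obtain ⟨hfin, hfree⟩ := finite_free_sat h e
  let E : sat e ≃ₗ[ℤ] M := (LinearEquiv.ofEq _ _ htop).trans Submodule.topEquiv
  haveI : Module.Finite ℤ M := Module.Finite.equiv E
  haveI : Module.Free ℤ M := Module.Free.of_equiv E
  exact ⟨inferInstance, inferInstance, hb _ _ (Module.finBasis ℤ M).linearIndependent⟩

/-- Injectivity of the `l`-adic realisation on a torsionless group with saturated image. -/
theorem linearIndependent_of_divide (h : Torsionless M) (l : ℕ) [Fact l.Prime] {V : Type*} [AddCommGroup V]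
    [Module ℤ_[l] V] (T : M →+ V) (hdiv : ∀ (x : M) (m : ℕ) (u : V), T x = ((l : ℤ_[l]) ^ m) • u → ∃ y, x = (l ^ m : ℕ) • y)
    {n : ℕ} (e : Fin n → M) (he : LinearIndependent ℤ e) : LinearIndependent ℤ_[l] (fun i => T (e i)) := by
  classical
  obtain ⟨hfin, hfree⟩ := finite_free_sat h e
  obtain ⟨r, b⟩ : Σ r, Module.Basis (Fin r) ℤ (sat e) := ⟨_, Module.finBasis ℤ (sat e)⟩
  have hT : ∀ (a : ℤ) (x : M), T (a • x) = (a : ℤ_[l]) • T x := fun a x => by
    rw [map_zsmul, Int.cast_smul_eq_zsmul]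
  have hTb : ∀ d : Fin r → ℤ_[l], ∑ j, d j • T (b j).1 = 0 → d = 0 := by
    intro d hd
    funext j
    refine PadicInt.ext_of_toZModPow.1 fun m => ?_
    let a : Fin r → ℤ := fun j => ((d j).appr m : ℤ)
    choose u hu using fun j => Ideal.mem_span_singleton.1 (PadicInt.appr_spec m (d j))
    have h1 : T (∑ j, a j • (b j).1) = ((l : ℤ_[l]) ^ m) • (-∑ j, u j • T (b j).1) := by
      rw [map_sum, smul_neg, Finset.smul_sum, eq_neg_iff_add_eq_zero, ← Finset.sum_add_distrib, ← hd]
      refine Finset.sum_congr rfl fun j _ => ?_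
      rw [hT, ← mul_smul, ← hu, ← add_smul]
      congr 1
      simp [a]
    obtain ⟨y, hy⟩ := hdiv _ _ _ h1
    have hy' : y ∈ sat e := by
      refine mem_sat (n := ((l ^ m : ℕ) : ℤ)) (by exact_mod_cast pow_ne_zero m (Fact.out : l.Prime).ne_zero) ?_
      rw [natCast_zsmul, ← hy]
      exact Submodule.sum_mem _ fun j _ => Submodule.smul_mem _ _ (b j).2
    have h2 : ∑ j, a j • b j = ((l ^ m : ℕ) : ℤ) • (⟨y, hy'⟩ : sat e) := Subtype.ext (by
      rw [Submodule.coe_sum, Submodule.coe_smul, natCast_zsmul]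
      simpa only [Submodule.coe_smul] using hy)
    have h3 := congrArg (fun z => b.repr z j) h2
    simp only [b.repr_sum_self, map_smul, Finsupp.smul_apply, smul_eq_mul] at h3
    rw [Pi.zero_apply, map_zero, show PadicInt.toZModPow m (d j) = ((d j).appr m : ZMod (l ^ m)) from rfl,
      ZMod.natCast_eq_zero_iff]
    exact Int.natCast_dvd_natCast.1 ⟨_, h3⟩
  refine Fintype.linearIndependent_iff.2 fun c hc => ?_
  let C : Fin n → Fin r → ℤ := fun i => b.repr ⟨e i, self_mem_sat e i⟩
  have hC : ∀ i, e i = ∑ j, C i j • (b j).1 := fun i => by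
    have h1 := congrArg Subtype.val (b.sum_repr ⟨e i, self_mem_sat e i⟩)
    rw [Submodule.coe_sum] at h1
    exact h1.symm
  choose N hN D hD using fun j => (b j).2
  have hd : (fun j => ∑ i, c i * (C i j : ℤ_[l])) = 0 := hTb _ (by
    rw [← hc]
    simp only [Finset.sum_smul, hC, map_sum, hT, Finset.smul_sum, ← mul_smul]
    exact Finset.sum_comm)
  let P : ℤ := ∏ j, N j
  let Q : Fin r → ℤ := fun j => ∏ j' ∈ Finset.univ.erase j, N j'
  have hPQ : ∀ j, Q j * N j = P := fun j => Finset.prod_erase_mul _ _ (Finset.mem_univ j)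
  have hCD : ∀ i k, ∑ j, C i j * Q j * D j k = if i = k then P else 0 := fun i k => by
    have h1 : ∑ k, (∑ j, C i j * Q j * D j k) • e k = ∑ k, (if i = k then P else 0) • e k := by
      simp only [Finset.sum_smul, ite_smul, zero_smul, Finset.sum_ite_eq, Finset.mem_univ, if_true]
      rw [Finset.sum_comm, hC i, Finset.smul_sum]
      refine Finset.sum_congr rfl fun j _ => ?_
      simp only [mul_smul, ← Finset.smul_sum, ← hD]
      rw [← mul_smul (Q j), hPQ, smul_comm]
    have := Fintype.linearIndependent_iff.1 he _ (by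
      rw [Finset.sum_congr rfl fun k _ => sub_smul (∑ j, C i j * Q j * D j k) (if i = k then P else 0) (e k),
        Finset.sum_sub_distrib, h1, sub_self]) k
    exact sub_eq_zero.1 this
  intro i
  have h4 : ∑ i', c i' * ((∑ j, C i' j * Q j * D j i : ℤ) : ℤ_[l]) = 0 := by
    simp only [Int.cast_sum, Int.cast_mul, Finset.mul_sum]
    rw [Finset.sum_comm]
    refine Finset.sum_eq_zero fun j _ => ?_
    have h5 := congrFun hd j
    simp only [Pi.zero_apply] at h5
    calc ∑ i', c i' * ((C i' j : ℤ_[l]) * (Q j : ℤ_[l]) * (D j i : ℤ_[l])) =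
        (∑ i', c i' * (C i' j : ℤ_[l])) * ((Q j : ℤ_[l]) * (D j i : ℤ_[l])) := by
          rw [Finset.sum_mul]; exact Finset.sum_congr rfl fun i' _ => by ring
      _ = 0 := by rw [h5, zero_mul]
  simp only [hCD, apply_ite (fun z : ℤ => (z : ℤ_[l])), Int.cast_zero, mul_ite, mul_zero, Finset.sum_ite_eq',
    Finset.mem_univ, if_true, mul_eq_zero] at h4
  exact h4.resolve_right (by exact_mod_cast Finset.prod_ne_zero_iff.2 fun j _ => hN j)

end Groth.Agent.AVHomLib
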