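import Groth.Agent.AVHomLib.Functional
import Groth.Agent.AVHomLib.Lattice
import Groth.Agent.AVPtsLib.Divide
import Groth.Agent.AVLib.TateFree
import Groth.Agent.EtAlgEasy.MorFibre
import Groth.Prelude.Def_EndTate

/-!
# The group of homomorphisms of abelian varieties
-/

set_option autoImplicit false
set_option backward.isDefEq.respectTransparency false

universe u

open CategoryTheory CategoryTheory.Limits MonoidalCategory CartesianMonoidalCategory MonObj AlgebraicGeometry

noncomputable section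

namespace Groth.Agent.AVHomLib

open AVPtsLib

variable {k : Type u} [Field k] (K : Type u) [Field K] [Algebra k K] [IsAlgClosed K]
  {A B : Over (Spec (CommRingCat.of k))}
  [GrpObj A] [IsCommMonObj A] [IsProper A.hom] [GeometricallyIntegral A.hom]
  [GrpObj B] [IsCommMonObj B] [IsProper B.hom] [GeometricallyIntegral B.hom]

/-- Homomorphisms are separated by integer valued functionals. -/
theorem torsionless_hom : Torsionless (EndAV.Hom A B) := by
  intro φ hφ
  have hne : (Over.pullback (bcMap (AlgebraicClosure k))).map φ.toHom ≠ 1 := fun h =>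
    hφ (EndAV.Hom.ext (bc_map_injective (AlgebraicClosure k) (h.trans (Functor.map_one _).symm)))
  obtain ⟨F, hF, hFφ⟩ := exists_functional (A := bcObj (AlgebraicClosure k) A) (B := bcObj (AlgebraicClosure k) B)
    ((Over.pullback (bcMap (AlgebraicClosure k))).map φ.toHom) hne
  refine ⟨AddMonoidHom.mk' (fun ψ => F ((Over.pullback (bcMap (AlgebraicClosure k))).map ψ.toHom)) fun ψ χ => ?_, hFφ⟩
  rw [EndAV.Hom.toHom_add, Functor.map_mul]
  exact hF _ _

variable (l : ℕ) [Fact l.Prime]

/-- Divisibility is detected on the Tate module. -/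
theorem divide_of_tateMap (hl : (l : k) ≠ 0) (φ : EndAV.Hom A B) (m : ℕ)
    (u : AbDual.TateMod A l (bcPt K) →ₗ[ℤ_[l]] AbDual.TateMod B l (bcPt K))
    (hu : EndAV.Hom.tateMap l (bcPt K) φ = ((l : ℤ_[l]) ^ m) • u) : ∃ ψ, φ = (l ^ m : ℕ) • ψ := by
  obtain ⟨φ', hφ', h⟩ := exists_divide K (l ^ m) (by rw [Nat.cast_pow]; exact pow_ne_zero _ hl) φ.toHom fun x hx => by
    obtain ⟨z, hz⟩ := exists_tate_lift K l m x hx
    have h1 := congrArg (AbDual.TateMod.component B l _ m) (LinearMap.congr_fun hu z)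
    rw [LinearMap.smul_apply, ← Nat.cast_pow, Nat.cast_smul_eq_nsmul, map_nsmul] at h1
    have h2 : (l ^ m) • AbDual.TateMod.component B l _ m (u z) = 0 := (u z).torsion m
    rw [h2] at h1
    rw [← hz]
    exact congrArg Additive.toMul h1
  haveI := hφ'
  refine ⟨EndAV.Hom.of φ', EndAV.Hom.ext ?_⟩
  rw [EndAV.Hom.toHom_nsmul, EndAV.Hom.toHom_of, h, MonObj.pow_comp, Category.id_comp]

/-- Independent homomorphisms act independently on the Tate module. -/
theorem linearIndependent_tateMap (hl : (l : k) ≠ 0) {n : ℕ} (e : Fin n → EndAV.Hom A B) (he : LinearIndependent ℤ e) :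
    LinearIndependent ℤ_[l] (fun i => EndAV.Hom.tateMap l (bcPt K) (e i)) :=
  linearIndependent_of_divide torsionless_hom l (EndAV.Hom.tateMap l (bcPt K))
    (fun φ m u hu => divide_of_tateMap K l hl φ m u hu) e he

omit [GrpObj B] [IsCommMonObj B] [IsProper B.hom] [GeometricallyIntegral B.hom] in
theorem free_tateMod (hl : (l : k) ≠ 0) {g : ℕ} (hg : topologicalKrullDim A.left = g) :
    Module.Free ℤ_[l] (AbDual.TateMod A l (bcPt K)) ∧ Module.Finite ℤ_[l] (AbDual.TateMod A l (bcPt K)) ∧
      Module.finrank ℤ_[l] (AbDual.TateMod A l (bcPt K)) = 2 * g := by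
  haveI : Subsingleton ↥(Spec (CommRingCat.of k)) := inferInstanceAs (Subsingleton (PrimeSpectrum k))
  haveI : Subsingleton ↥(Spec (CommRingCat.of K)) := inferInstanceAs (Subsingleton (PrimeSpectrum K))
  have hg' : topologicalKrullDim (bcObj K A).left = g := by
    rw [← hg]
    exact EtAlgEasy.MorFibre.topologicalKrullDim_baseChange (IsPullback.of_hasPullback A.hom (bcMap K))
  have hl' : (l : K) ≠ 0 := by
    rw [← map_natCast (algebraMap k K), ne_eq, map_eq_zero]
    exact hl
  refine AVLib.free_tateMod (fun x => ?_) (fun n => ?_)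
  · obtain ⟨b, hb⟩ := AVPtsLib.exists_npow_eq K l (Fact.out : l.Prime).one_le x.toMul
    exact ⟨Additive.ofMul b, congrArg Additive.ofMul hb⟩
  · refine (Nat.card_congr (Equiv.subtypeEquiv (Additive.toMul.trans (ptsEquiv (A := A) K).toEquiv) fun x => ?_)).trans
      ((AVLib.natCard_pow_eq_one (A := bcObj K A) hg' (l ^ n) (by rw [Nat.cast_pow]; exact pow_ne_zero _ hl')).2)
    show l ^ n • x = 0 ↔ ptsEquiv K x.toMul ^ l ^ n = 1
    rw [← map_pow, MulEquiv.map_eq_one_iff]
    exact Iff.rfl

include K in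
theorem card_le_of_linearIndependent (hl : (l : k) ≠ 0) {g h : ℕ} (hg : topologicalKrullDim A.left = g)
    (hh : topologicalKrullDim B.left = h) {n : ℕ} (e : Fin n → EndAV.Hom A B) (he : LinearIndependent ℤ e) :
    n ≤ 4 * g * h := by
  obtain ⟨hA1, hA2, hA3⟩ := free_tateMod (A := A) K l hl hg
  obtain ⟨hB1, hB2, hB3⟩ := free_tateMod (A := B) K l hl hh
  have := (linearIndependent_tateMap K l hl e he).fintype_card_le_finrank
  rw [Fintype.card_fin, Module.finrank_linearMap, hA3, hB3] at this
  calc n ≤ 2 * g * (2 * h) := this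
    _ = 4 * g * h := by ring

omit [IsAlgClosed K] in
theorem exists_prime_ne_zero : ∃ l : ℕ, l.Prime ∧ (l : k) ≠ 0 := by
  by_cases h2 : (2 : k) = 0
  · refine ⟨3, Nat.prime_three, fun h3 => one_ne_zero (α := k) ?_⟩
    have : (3 : k) = 0 := by exact_mod_cast h3
    linear_combination this - h2
  · exact ⟨2, Nat.prime_two, by exact_mod_cast h2⟩

/-- `Hom` is finite free of rank at most `4gh`. -/
theorem finite_free_hom {g h : ℕ} (hg : topologicalKrullDim A.left = g) (hh : topologicalKrullDim B.left = h) :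
    Module.Free ℤ (EndAV.Hom A B) ∧ Module.Finite ℤ (EndAV.Hom A B) ∧ Module.finrank ℤ (EndAV.Hom A B) ≤ 4 * g * h := by
  obtain ⟨l, hl, hlk⟩ := exists_prime_ne_zero (k := k)
  haveI := Fact.mk hl
  exact finite_free_of_bound torsionless_hom _ fun n e he =>
    card_le_of_linearIndependent (AlgebraicClosure k) l hlk hg hh e he

variable (A B) in
theorem finite_hom : Module.Finite ℤ (EndAV.Hom A B) ∧ Module.Free ℤ (EndAV.Hom A B) := by
  obtain ⟨g, hg⟩ := AVLib.exists_dim (A := A)
  obtain ⟨h, hh⟩ := AVLib.exists_dim (A := B)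
  exact ⟨(finite_free_hom hg hh).2.1, (finite_free_hom hg hh).1⟩

end Groth.Agent.AVHomLib
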